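import Groth.Agent.Lib.Lead.QC.LocFree3
import Groth.Agent.Lib.Lead.QC.Push
import Groth.Agent.Lib.Helper5.AG.TildeExact
import Mathlib.Algebra.Homology.HomotopyCategory.KProjective

/-!
# Acyclic bounded above complexes of finite locally free modules on an affine scheme (helper3)

On an affine scheme `X` with `A = Γ(X, O_X)` we build the adjunction `T ⊣ G` between `A`-modules and
`O_X`-modules (`T` = tilde followed by transport along `X ≅ Spec A`, `G` = global sections), show
that `T` is exact and faithful, that the counit is an isomorphism on quasi-coherent modules and that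
`G` of a finite locally free module is projective.  Consequently an acyclic bounded above complex of
finite locally free modules is contractible.
-/

set_option autoImplicit false
universe u
open CategoryTheory CategoryTheory.Limits AlgebraicGeometry Opposite TopologicalSpace

namespace Groth.Agent.H3.DCohAffine

section Equiv
variable {X Y : Scheme.{u}} (φ : X ≅ Y)

/-- pushforward along an isomorphism of schemes is an equivalence of categories of modules. -/
noncomputable def pushEquiv : X.Modules ≌ Y.Modules :=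
  CategoryTheory.Equivalence.mk (Scheme.Modules.pushforward φ.hom) (Scheme.Modules.pushforward φ.inv)
    ((Scheme.Modules.pushforwardId X).symm ≪≫
      Scheme.Modules.pushforwardCongr φ.hom_inv_id.symm ≪≫
      (Scheme.Modules.pushforwardComp φ.hom φ.inv).symm)
    (Scheme.Modules.pushforwardComp φ.inv φ.hom ≪≫
      Scheme.Modules.pushforwardCongr φ.inv_hom_id ≪≫ Scheme.Modules.pushforwardId Y)

instance isEquivalence_pushforward_hom : (Scheme.Modules.pushforward φ.hom).IsEquivalence :=
  (pushEquiv φ).isEquivalence_functor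

instance isEquivalence_pushforward_inv : (Scheme.Modules.pushforward φ.inv).IsEquivalence :=
  (pushEquiv φ).isEquivalence_inverse

end Equiv

section Affine
variable (X : Scheme.{u}) [IsAffine X]

/-- `M ↦ M~` transported to `X`. -/
noncomputable def T : ModuleCat.{u} Γ(X, ⊤) ⥤ X.Modules :=
  tilde.functor Γ(X, ⊤) ⋙ Scheme.Modules.pushforward X.isoSpec.inv

/-- global sections as a module over global functions. -/
noncomputable def G : X.Modules ⥤ ModuleCat.{u} Γ(X, ⊤) :=
  Scheme.Modules.pushforward X.isoSpec.hom ⋙ moduleSpecΓFunctor (R := Γ(X, ⊤))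

/-- the adjunction `T ⊣ G`. -/
noncomputable def adj : T X ⊣ G X :=
  (tilde.adjunction (R := Γ(X, ⊤))).comp (pushEquiv X.isoSpec).symm.toAdjunction

instance : (T X).Additive := by
  unfold T; infer_instance

instance : (T X).Faithful := by
  unfold T; infer_instance

instance : (G X).Additive := (adj X).right_adjoint_additive

instance : PreservesFiniteLimits (T X) := by
  unfold T
  haveI := Groth.Agent.H5.AG.tilde_preservesFiniteLimits Γ(X, ⊤)
  infer_instance

instance : PreservesFiniteColimits (T X) := by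
  unfold T
  infer_instance

lemma isIso_counit (M : X.Modules) [M.IsQuasicoherent] : IsIso ((adj X).counit.app M) := by
  haveI : ((Scheme.Modules.pushforward X.isoSpec.hom).obj M).IsQuasicoherent :=
    Groth.Agent.LD.QC.qc_pushforward X.isoSpec.hom M
  have h : (adj X).counit.app M = _ := Adjunction.comp_counit_app (tilde.adjunction (R := Γ(X, ⊤)))
    (pushEquiv X.isoSpec).symm.toAdjunction M
  rw [h]
  haveI : IsIso ((tilde.adjunction (R := Γ(X, ⊤))).counit.app
      ((pushEquiv X.isoSpec).symm.inverse.obj M)) :=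
    Scheme.Modules.isIso_fromTildeΓ_of_isQuasicoherent (R := Γ(X, ⊤))
      ((Scheme.Modules.pushforward X.isoSpec.hom).obj M)
  haveI : IsIso ((pushEquiv X.isoSpec).symm.toAdjunction.counit.app M) :=
    inferInstanceAs (IsIso ((pushEquiv X.isoSpec).symm.counitIso.hom.app M))
  refine @IsIso.comp_isIso _ _ _ _ _ _ _ ?_ this
  exact Functor.map_isIso _ _

end Affine

section Proj
variable (X : Scheme.{u}) [IsAffine X] (M : X.Modules)

/-- the direct image on `Spec Γ(X, O)`. -/
noncomputable abbrev Gp : (Spec Γ(X, ⊤)).Modules :=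
  (Scheme.Modules.pushforward X.isoSpec.hom).obj M

lemma smul_eq (r : Γ(X, ⊤)) (x : Γ(M, ⊤)) :
    (r • (show Γ(Gp X M, ⊤) from x) : Γ(Gp X M, ⊤)) = (show Γ(Gp X M, ⊤) from (r • x : Γ(M, ⊤))) := by
  rw [Scheme.Modules.smul_Spec_def, Groth.Agent.LD.QC.pushforward_smul]
  have h : X.isoSpec.hom.app ⊤ (((Spec Γ(X, ⊤)).presheaf.map (⊤ : (Spec Γ(X, ⊤)).Opens).leTop.op)
      ((Scheme.ΓSpecIso Γ(X, ⊤)).inv r)) = r := by
    have h1 : ((Spec Γ(X, ⊤)).presheaf.map (⊤ : (Spec Γ(X, ⊤)).Opens).leTop.op) = 𝟙 _ :=
      (Spec Γ(X, ⊤)).presheaf.map_id _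
    rw [h1]
    have h2 := Scheme.toSpecΓ_appTop X
    have h3 : X.isoSpec.hom.app ⊤ = (Scheme.ΓSpecIso Γ(X, ⊤)).hom := h2
    rw [h3]
    exact congr($((Scheme.ΓSpecIso Γ(X, ⊤)).inv_hom_id) r)
  rw [h]
  rfl

/-- `Γ(X, M)` is the module of global sections of the direct image of `M` on `Spec Γ(X, O)`. -/
noncomputable def secEquiv : Γ(M, ⊤) ≃ₗ[Γ(X, ⊤)] Γ(Gp X M, ⊤) :=
  { toFun := fun x => x
    invFun := fun x => x
    map_add' := fun _ _ => rfl
    map_smul' := fun r x => (smul_eq X M r x).symm
    left_inv := fun _ => rfl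
    right_inv := fun _ => rfl }

lemma projective_G (h : FlatMod.IsFinLocFree M) : Projective ((G X).obj M) := by
  haveI := Groth.Agent.LD.QC.qc_of_isFinLocFree M h
  obtain ⟨h1, h2⟩ := (Groth.Agent.LD.QC.isFinLocFree_iff_sections M).mp h ⊤ (isAffineOpen_top X)
  haveI : Module.Projective Γ(X, ⊤) Γ(M, ⊤) := Module.Flat.projective_of_finitePresentation
  have h3 : Module.Projective Γ(X, ⊤) Γ(Gp X M, ⊤) := Module.Projective.of_equiv' (secEquiv X M)
  exact @ModuleCat.projective_of_categoryTheory_projective Γ(X, ⊤) _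
    ((modulesSpecToSheaf.obj (Gp X M)).presheaf.obj (op ⊤)) h3

end Proj

section Main

theorem acyclic_of_homotopy {C : Type*} [Category C] [Abelian C] (E : CochainComplex C ℤ)
    (h : Homotopy (𝟙 E) 0) : E.Acyclic := by
  intro i
  rw [HomologicalComplex.exactAt_iff_isZero_homology, IsZero.iff_id_eq_zero]
  have := h.homologyMap_eq i
  rw [HomologicalComplex.homologyMap_id, HomologicalComplex.homologyMap_zero] at this
  exact this

variable {X : Scheme.{u}} [IsAffine X]

theorem homotopy_of_acyclic (E : CochainComplex X.Modules ℤ) (b : ℤ)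
    (hEb : ∀ i : ℤ, b < i → IsZero (E.X i)) (hE : ∀ i : ℤ, FlatMod.IsFinLocFree (E.X i))
    (hac : E.Acyclic) : Nonempty (Homotopy (𝟙 E) 0) := by
  haveI hqc : ∀ i, (E.X i).IsQuasicoherent :=
    fun i => Groth.Agent.LD.QC.qc_of_isFinLocFree _ (hE i)
  haveI : ∀ i, IsIso ((adj X).counit.app (E.X i)) := fun i => isIso_counit X (E.X i)
  let M : CochainComplex (ModuleCat.{u} Γ(X, ⊤)) ℤ := ((G X).mapHomologicalComplex _).obj E
  let TM : CochainComplex X.Modules ℤ := ((T X).mapHomologicalComplex _).obj M
  let ε : TM ≅ E := HomologicalComplex.Hom.isoOfComponents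
    (fun i => @asIso _ _ _ _ ((adj X).counit.app (E.X i)) (isIso_counit X (E.X i)))
    (fun i j _ => ((adj X).counit.naturality (E.d i j)).symm)
  have hM : M.Acyclic := by
    intro i
    have h1 : TM.ExactAt i := (hac i).of_iso ε.symm
    rw [HomologicalComplex.exactAt_iff] at h1 ⊢
    exact ((M.sc i).exact_map_iff_of_faithful (T X)).mp h1
  haveI : M.IsStrictlyLE b := by
    rw [CochainComplex.isStrictlyLE_iff]
    intro i hi
    exact (G X).map_isZero (hEb i hi)
  haveI : ∀ n, Projective (M.X n) := fun n => projective_G X (E.X n) (hE n)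
  haveI := CochainComplex.isKProjective_of_projective M b
  obtain ⟨h⟩ := CochainComplex.IsKProjective.nonempty_homotopy_zero (𝟙 M) hM
  have h' := (T X).mapHomotopy h
  refine ⟨(Homotopy.ofEq ?_).trans (((h'.compLeft ε.inv).compRight ε.hom).trans
    (Homotopy.ofEq ?_))⟩
  · simp
  · simp

end Main

end Groth.Agent.H3.DCohAffine
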